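import Groth.Agent.L19.NcPC.Defs
import Mathlib.Algebra.Homology.HomotopyCategory.MappingCone
import Mathlib.Algebra.Homology.ShortComplex.ModuleCat

/-!
Element-level description of the homology of mapping cones of complexes of modules.
-/

universe u

open CategoryTheory CategoryTheory.Limits CochainComplex CochainComplex.HomComplex

namespace Groth.L19.NcPC

variable {A : Type u} [Ring A] {P K : CochainComplex (ModuleCat.{u} A) ℤ} (f : P ⟶ K)

/-- Element-level exactness of the cone of `f` at the place `i`, with the neighbours named. -/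
def ConeExact (h i j k : ℤ) : Prop :=
  ∀ (p : P.X j) (x : K.X i), P.d j k p = 0 → f.f j p = K.d i j x →
    ∃ (q : P.X i) (y : K.X h), P.d i j q = p ∧ f.f i q + K.d h i y = x

/-- the components of an element of the cone -/
noncomputable def coneEquiv (i j : ℤ) (hij : i + 1 = j) :
    (mappingCone f).X i ≃ₗ[A] (P.X j × K.X i) where
  toFun z := ((mappingCone.fst f).1.v i j hij z, (mappingCone.snd f).v i i (add_zero i) z)
  map_add' := by simp
  map_smul' := by simp
  invFun w := (mappingCone.inl f).v j i (by omega) w.1 + (mappingCone.inr f).f i w.2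
  left_inv z := by
    have := congrArg (fun φ : (mappingCone f).X i ⟶ _ => φ z) (mappingCone.id_X f i j hij)
    simpa using this
  right_inv w := by
    have h1 := congrArg (fun φ : P.X j ⟶ _ => φ w.1) (mappingCone.inl_v_fst_v f j i hij)
    have h2 := congrArg (fun φ : P.X j ⟶ _ => φ w.1) (mappingCone.inl_v_snd_v f j i (by omega))
    have h3 := congrArg (fun φ : K.X i ⟶ _ => φ w.2) (mappingCone.inr_f_fst_v f i j hij)
    have h4 := congrArg (fun φ : K.X i ⟶ _ => φ w.2) (mappingCone.inr_f_snd_v f i)
    simp only [ModuleCat.hom_comp, LinearMap.comp_apply, ModuleCat.hom_id, LinearMap.id_apply,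
      ModuleCat.hom_zero, LinearMap.zero_apply] at h1 h2 h3 h4
    simp [h1, h2, h3, h4]

theorem coneEquiv_d (i j k : ℤ) (hij : i + 1 = j) (hjk : j + 1 = k) (z : (mappingCone f).X i) :
    coneEquiv f j k hjk ((mappingCone f).d i j z) =
      (-P.d j k (coneEquiv f i j hij z).1,
        f.f j (coneEquiv f i j hij z).1 + K.d i j (coneEquiv f i j hij z).2) := by
  have h1 := congrArg (fun φ : (mappingCone f).X i ⟶ _ => φ z) (mappingCone.d_fst_v f i j k hij hjk)
  have h2 := congrArg (fun φ : (mappingCone f).X i ⟶ _ => φ z) (mappingCone.d_snd_v f i j hij)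
  simp at h1 h2
  simp [coneEquiv, h1, h2]

/-- cycles of the cone in degree `i` -/
noncomputable abbrev coneCycles (i j : ℤ) : Submodule A ((mappingCone f).X i) := LinearMap.ker ((mappingCone f).d i j).hom

theorem coneExact_iff (h i j k : ℤ) (hhi : h + 1 = i) (hij : i + 1 = j) (hjk : j + 1 = k) :
    ConeExact f h i j k ↔ IsZero ((mappingCone f).homology i) := by
  rw [← HomologicalComplex.exactAt_iff_isZero_homology,
    HomologicalComplex.exactAt_iff' _ h i j (by simp; omega) (by simp; omega),
    ShortComplex.moduleCat_exact_iff]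
  constructor
  · intro H z hz
    let w := coneEquiv f i j hij z
    have hw := coneEquiv_d f i j k hij hjk z
    rw [show (mappingCone f).d i j z = 0 from hz, map_zero] at hw
    obtain ⟨hw1, hw2⟩ := Prod.ext_iff.mp hw.symm
    obtain ⟨q, y, hq, hy⟩ := H w.1 (-w.2) (by simpa using hw1) (by
      rw [map_neg]; exact eq_neg_of_add_eq_zero_left (by simpa using hw2))
    refine ⟨(coneEquiv f h i hhi).symm (-q, -y), (coneEquiv f i j hij).injective ?_⟩
    show coneEquiv f i j hij ((mappingCone f).d h i _) = _
    rw [coneEquiv_d f h i j hhi hij, LinearEquiv.apply_symm_apply]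
    refine Prod.ext ?_ ?_
    · simp [hq, w]
    · show f.f i (-q) + K.d h i (-y) = w.2
      rw [map_neg, map_neg, ← neg_add, hy, neg_neg]
  · intro H p x hp hx
    let z := (coneEquiv f i j hij).symm (p, -x)
    have hz : (mappingCone f).d i j z = 0 := by
      apply (coneEquiv f j k hjk).injective
      rw [coneEquiv_d f i j k hij hjk, LinearEquiv.apply_symm_apply, map_zero]
      simp [hp, hx]
    obtain ⟨(v : (mappingCone f).X h), hv⟩ := H z hz
    have hv' := congrArg (coneEquiv f i j hij) hv
    change coneEquiv f i j hij ((mappingCone f).d h i v) = _ at hv'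
    rw [coneEquiv_d f h i j hhi hij, LinearEquiv.apply_symm_apply] at hv'
    obtain ⟨h1, h2⟩ := Prod.ext_iff.mp hv'
    refine ⟨-(coneEquiv f h i hhi v).1, -(coneEquiv f h i hhi v).2, ?_, ?_⟩
    · simpa using h1
    · rw [map_neg, map_neg, ← neg_add, neg_eq_iff_eq_neg]; exact h2

/-- Finitely many cone cycles generate, if the homology of the cone is finite. -/
theorem exists_finset_cone_cycles (h i j k : ℤ) (hhi : h + 1 = i) (hij : i + 1 = j) (hjk : j + 1 = k)
    [Module.Finite A ((mappingCone f).homology i)] :
    ∃ (n : ℕ) (g : Fin n → P.X j × K.X i),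
      (∀ s, P.d j k (g s).1 = 0 ∧ f.f j (g s).1 = K.d i j (g s).2) ∧
      ∀ (p : P.X j) (x : K.X i), P.d j k p = 0 → f.f j p = K.d i j x →
        ∃ (c : Fin n → A) (q : P.X i) (y : K.X h),
          P.d i j q = p - ∑ s, c s • (g s).1 ∧ f.f i q + K.d h i y = x - ∑ s, c s • (g s).2 := by
  let S := (mappingCone f).sc' h i j
  have : Module.Finite A S.homology :=
    Module.Finite.equiv ((mappingCone f).homologyIsoSc' h i j (by simp; omega) (by simp; omega)).toLinearEquiv
  have : Module.Finite A (LinearMap.ker S.g.hom ⧸ LinearMap.range S.moduleCatToCycles) :=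
    Module.Finite.equiv S.moduleCatHomologyIso.toLinearEquiv
  obtain ⟨n, π, hπ⟩ := Module.Finite.exists_fin' A (LinearMap.ker S.g.hom ⧸ LinearMap.range S.moduleCatToCycles)
  choose r hr using fun s => Submodule.mkQ_surjective _ (π (Pi.single s 1))
  let g : Fin n → P.X j × K.X i := fun s =>
    ((coneEquiv f i j hij (r s).1).1, -(coneEquiv f i j hij (r s).1).2)
  refine ⟨n, g, fun s => ?_, fun p x hp hx => ?_⟩
  · have hw := coneEquiv_d f i j k hij hjk (r s).1
    rw [show (mappingCone f).d i j (r s).1 = 0 from (r s).2, map_zero] at hw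
    obtain ⟨hw1, hw2⟩ := Prod.ext_iff.mp hw.symm
    exact ⟨by simpa [g] using hw1, by
      simp only [g, map_neg]; exact eq_neg_of_add_eq_zero_left (by simpa using hw2)⟩
  · let z := (coneEquiv f i j hij).symm (p, -x)
    have hz : (mappingCone f).d i j z = 0 := by
      apply (coneEquiv f j k hjk).injective
      rw [coneEquiv_d f i j k hij hjk, LinearEquiv.apply_symm_apply, map_zero]
      simp [hp, hx]
    obtain ⟨c, hc⟩ := hπ (Submodule.Quotient.mk ⟨z, hz⟩)
    have hmem : (⟨z, hz⟩ : LinearMap.ker S.g.hom) - ∑ s, c s • r s ∈ LinearMap.range S.moduleCatToCycles := by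
      rw [← Submodule.Quotient.mk_eq_zero, ← Submodule.mkQ_apply, map_sub, sub_eq_zero, Submodule.mkQ_apply,
        ← hc, map_sum]
      have : c = ∑ s, c s • (Pi.single s 1 : Fin n → A) := by
        funext l; simp [Finset.sum_apply, Pi.single_apply]
      conv_lhs => rw [this, map_sum]
      exact Finset.sum_congr rfl fun s _ => by rw [map_smul, map_smul, ← hr]
    obtain ⟨(v : (mappingCone f).X h), hv⟩ := hmem
    let r' : Fin n → (mappingCone f).X i := fun s => (r s).1
    have hv' : (mappingCone f).d h i v = z - ∑ s, c s • r' s := by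
      have := congrArg Subtype.val hv
      rw [Submodule.coe_sub, Submodule.coe_sum] at this
      exact this
    have hv'' := congrArg (coneEquiv f i j hij) hv'
    rw [coneEquiv_d f h i j hhi hij, map_sub, LinearEquiv.apply_symm_apply, map_sum] at hv''
    obtain ⟨h1, h2⟩ := Prod.ext_iff.mp hv''
    simp only [Prod.fst_sub, Prod.fst_sum, map_smul, Prod.smul_fst] at h1
    simp only [Prod.snd_sub, Prod.snd_sum, map_smul, Prod.smul_snd] at h2
    refine ⟨c, -(coneEquiv f h i hhi v).1, -(coneEquiv f h i hhi v).2, ?_, ?_⟩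
    · simpa [g, r'] using h1
    · rw [map_neg, map_neg, ← neg_add, h2]
      simp [g, r', Finset.sum_neg_distrib, sub_eq_add_neg, neg_add_rev, add_comm]

end Groth.L19.NcPC
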