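import Mathlib.Algebra.Category.ModuleCat.Abelian
import Mathlib.Algebra.Homology.HomotopyCategory.MappingCone
import Mathlib.Algebra.Homology.DerivedCategory.TStructure
import Mathlib.RingTheory.Finiteness.Basic
import Mathlib.RingTheory.Finiteness.Cardinality
import Mathlib.LinearAlgebra.FreeModule.Basic

/-!
# Bounded complexes of finite free modules over a (possibly noncommutative) ring
-/

universe u

open CategoryTheory CategoryTheory.Limits

namespace Groth.L19.NcPC.NC

variable {A : Type u} [Ring A]

/-- all terms outside `[a, b]` are zero -/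
def VanishesOutside (P : CochainComplex (ModuleCat.{u} A) ℤ) (a b : ℤ) : Prop :=
  ∀ i : ℤ, i < a ∨ b < i → IsZero (P.X i)

/-- all terms above `b` are zero -/
def VanishesAbove (P : CochainComplex (ModuleCat.{u} A) ℤ) (b : ℤ) : Prop := ∀ i : ℤ, b < i → IsZero (P.X i)

/-- all terms are finite free -/
def TermwiseFiniteFree (P : CochainComplex (ModuleCat.{u} A) ℤ) : Prop :=
  ∀ i : ℤ, Module.Finite A (P.X i) ∧ Module.Free A (P.X i)

end Groth.L19.NcPC.NC
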