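import Groth.Agent.L19.NcPC.Resolution
import Groth.Agent.L02.PC.Coherent
import Mathlib.Algebra.Category.ModuleCat.ChangeOfRings
import Mathlib.Algebra.Homology.DerivedCategory.ExactFunctor
import Mathlib.RingTheory.Finiteness.Basic

/-!
# Pseudo-coherence over a finite free, possibly noncommutative, algebra
-/

set_option autoImplicit false
set_option backward.isDefEq.respectTransparency false
set_option backward.isDefEq.respectTransparency.types false

universe u

open CategoryTheory CategoryTheory.Limits CategoryTheory.Pretriangulated CochainComplex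

attribute [local instance] HasDerivedCategory.standard

noncomputable section

namespace Groth.L19.NcPC

variable {A : Type u} [CommRing A] {R : Type u} [Ring R] [Algebra A R]

/-- restriction of scalars of a module is finite only if the module is -/
theorem finite_of_restrict (N : ModuleCat.{u} R)
    (h : Module.Finite A ((ModuleCat.restrictScalars.{u} (algebraMap A R)).obj N)) : Module.Finite R N := by
  letI : Module A N := Module.compHom N (algebraMap A R)
  haveI : IsScalarTower A R N := ⟨fun a r n => by
    show (a • r) • n = algebraMap A R a • (r • n)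
    rw [Algebra.smul_def, mul_smul]⟩
  haveI : Module.Finite A N := h
  exact Module.Finite.of_restrictScalars_finite A R N

variable [Module.Finite A R] [Module.Free A R]

/-- a finite free module restricts to a finite free module -/
theorem finiteFree_restrict (N : ModuleCat.{u} R) [Module.Finite R N] [Module.Free R N] :
    Module.Finite A ((ModuleCat.restrictScalars.{u} (algebraMap A R)).obj N) ∧
      Module.Free A ((ModuleCat.restrictScalars.{u} (algebraMap A R)).obj N) := by
  letI : Module A N := Module.compHom N (algebraMap A R)
  haveI : IsScalarTower A R N := ⟨fun a r n => by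
    show (a • r) • n = algebraMap A R a • (r • n)
    rw [Algebra.smul_def, mul_smul]⟩
  exact ⟨(Module.Finite.trans R N : Module.Finite A N), (Module.Free.trans (R := A) (S := R) (M := N) : Module.Free A N)⟩

variable [PreservesFiniteLimits (ModuleCat.restrictScalars.{u} (algebraMap A R))]
  [PreservesFiniteColimits (ModuleCat.restrictScalars.{u} (algebraMap A R))]

/-- homology of the restriction of a complex is the restriction of the homology -/
def homologyResIso (K : CochainComplex (ModuleCat.{u} R) ℤ) (i : ℤ) :
    (Groth.L02.PC.HH i).obj ((ModuleCat.restrictScalars.{u} (algebraMap A R)).mapDerivedCategory.obj (DerivedCategory.Q.obj K)) ≅ (ModuleCat.restrictScalars.{u} (algebraMap A R)).obj (K.homology i) :=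
  (Groth.L02.PC.HH i).mapIso ((ModuleCat.restrictScalars.{u} (algebraMap A R)).mapDerivedCategoryFactors.app K) ≪≫
    (DerivedCategory.homologyFunctorFactors _ i).app _ ≪≫ (K.sc i).mapHomologyIso (ModuleCat.restrictScalars.{u} (algebraMap A R))

/-- An object of `D(R)`, `R` a finite free `A`-algebra, whose restriction to `A` is pseudo-coherent is represented
by a bounded above complex of finite free `R`-modules. -/
theorem exists_finiteFree_of_restrict (M : DerivedCategory (ModuleCat.{u} R))
    (hM : DRing.IsPseudoCoherent' A ((ModuleCat.restrictScalars.{u} (algebraMap A R)).mapDerivedCategory.obj M)) :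
    ∃ (F : CochainComplex (ModuleCat.{u} R) ℤ) (b : ℤ), (∀ i : ℤ, b < i → IsZero (F.X i)) ∧
      (∀ i : ℤ, Module.Finite R (F.X i) ∧ Module.Free R (F.X i)) ∧ Nonempty (DerivedCategory.Q.obj F ≅ M) := by
  have hpc := Groth.L02.PC.pc_of_pc' hM
  obtain ⟨E, b, hEb, -, ⟨eE⟩⟩ := hM
  let K₀ := (DerivedCategory.Q (C := ModuleCat.{u} R)).objPreimage M
  let e₀ : DerivedCategory.Q.obj K₀ ≅ M := DerivedCategory.Q.objObjPreimageIso M
  have hz : ∀ i, b < i → IsZero (K₀.homology i) := by
    intro i hi
    have h1 : IsZero ((ModuleCat.restrictScalars.{u} (algebraMap A R)).obj (K₀.homology i)) :=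
      (((Groth.L02.PC.isZero_HH_Q_iff E i).2 (ShortComplex.isZero_homology_of_isZero_X₂ (E.sc i) (hEb i hi))).of_iso
        ((Groth.L02.PC.HH i).mapIso ((ModuleCat.restrictScalars.{u} (algebraMap A R)).mapDerivedCategory.mapIso e₀ ≪≫ eE.symm))).of_iso (homologyResIso K₀ i).symm
    have := ModuleCat.subsingleton_of_isZero h1
    exact @ModuleCat.isZero_of_subsingleton _ _ _ (this : Subsingleton (K₀.homology i))
  haveI : M.IsLE b := (DerivedCategory.isLE_iff M b).2 fun i hi =>
    (hz i hi).of_iso ((DerivedCategory.homologyFunctor _ i).mapIso e₀.symm ≪≫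
      (DerivedCategory.homologyFunctorFactors _ i).app K₀)
  obtain ⟨K, hK, ⟨e⟩⟩ := DerivedCategory.exists_iso_Q_obj_of_isLE M b
  have hKv : NC.VanishesAbove K b := fun i hi => CochainComplex.isZero_of_isStrictlyLE K b i hi
  obtain ⟨P, f, hP, hPf, hf⟩ := exists_finite_free_resolution K b hKv fun W a φ i hW hWf _ hex => by
    apply finite_of_restrict (A := A)
    have hWA : DRing.IsPseudoCoherent A (i + 1) ((ModuleCat.restrictScalars.{u} (algebraMap A R)).mapDerivedCategory.obj (DerivedCategory.Q.obj W)) :=
      Groth.L02.PC.pc_of_iso ((ModuleCat.restrictScalars.{u} (algebraMap A R)).mapDerivedCategoryFactors.app W).symm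
        (Groth.L02.PC.pc_of_bounded_free (E := ((ModuleCat.restrictScalars.{u} (algebraMap A R)).mapHomologicalComplex _).obj W) (a := a) (b := b)
          (fun j hj => (ModuleCat.restrictScalars.{u} (algebraMap A R)).map_isZero (hW j hj))
          (fun j => by
            obtain ⟨_, _⟩ := hWf j
            exact finiteFree_restrict (A := A) (W.X j)) (i + 1))
    have hKA : DRing.IsPseudoCoherent A i ((ModuleCat.restrictScalars.{u} (algebraMap A R)).mapDerivedCategory.obj (DerivedCategory.Q.obj K)) :=
      Groth.L02.PC.pc_of_iso ((ModuleCat.restrictScalars.{u} (algebraMap A R)).mapDerivedCategory.mapIso e) (hpc i)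
    have hT := (ModuleCat.restrictScalars.{u} (algebraMap A R)).mapDerivedCategory.map_distinguished _
      (DerivedCategory.mappingCone_triangle_distinguished φ)
    have hC : DRing.IsPseudoCoherent A i
        ((ModuleCat.restrictScalars.{u} (algebraMap A R)).mapDerivedCategory.obj (DerivedCategory.Q.obj (mappingCone φ))) :=
      Groth.L02.PC.pc_third _ hT i hWA hKA
    haveI := Groth.L02.PC.pc_finite hC fun j hj => ((ModuleCat.restrictScalars.{u} (algebraMap A R)).map_isZero (hex j hj)).of_iso (homologyResIso _ j)
    exact Module.Finite.equiv (homologyResIso (mappingCone φ) i).toLinearEquiv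
  haveI : IsIso (DerivedCategory.Q.map f) := (DerivedCategory.isIso_Q_map_iff_quasiIso _ f).2 hf
  exact ⟨P, b, hP, hPf, ⟨asIso (DerivedCategory.Q.map f) ≪≫ e.symm⟩⟩

end Groth.L19.NcPC
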