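import Groth.Agent.L19.NcPC.Cone
import Mathlib.Algebra.Homology.Embedding.CochainComplex
import Mathlib.Algebra.Homology.Embedding.StupidTrunc
import Mathlib.Algebra.Homology.Embedding.Extend

/-!
Inductive construction of resolutions of a chain complex of modules by prescribed covers.
-/

universe u

open CategoryTheory CategoryTheory.Limits

namespace Groth.L19.NcPC

variable {A : Type u} [Ring A]

/-- State of the inductive construction in degree `k`: `M` is the module of compatible pairs. -/
structure Stage (R : ChainComplex (ModuleCat.{u} A) ℕ) (k : ℕ) : Type (u + 1) where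
  M : ModuleCat.{u} A
  x : M →ₗ[A] R.X k
  j : R.X (k + 1) →ₗ[A] M
  xj : ∀ y, x (j y) = R.d (k + 1) k y
  jd : ∀ y : R.X (k + 2), j (R.d (k + 2) (k + 1) y) = 0

variable (R : ChainComplex (ModuleCat.{u} A) ℕ)

lemma d_d (i j k : ℕ) (y : R.X i) : R.d j k (R.d i j y) = 0 := by
  show (R.d i j ≫ R.d j k).hom y = 0
  rw [R.d_comp_d]
  rfl

/-- the initial stage -/
def stageZero : Stage R 0 where
  M := R.X 0
  x := LinearMap.id
  j := (R.d 1 0).hom
  xj _ := rfl
  jd y := d_d R 2 1 0 y

variable {R}

/-- the stage following a choice of cover -/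
def Stage.next {k : ℕ} (s : Stage R k) (P : ModuleCat.{u} A) (π : P →ₗ[A] s.M) : Stage R (k + 1) where
  M := ModuleCat.of A (LinearMap.ker (π.coprod (-s.j)))
  x := (LinearMap.snd A P (R.X (k + 1))).comp (Submodule.subtype _)
  j := ((LinearMap.inr A P (R.X (k + 1))).comp (R.d (k + 2) (k + 1)).hom).codRestrict _ (fun y => by
    simp [s.jd])
  xj _ := rfl
  jd y := by
    exact Subtype.ext (Prod.ext rfl (d_d R (k + 3) (k + 2) (k + 1) y))

/-- A choice of cover at every possible stage. -/
abbrev Chooser (R : ChainComplex (ModuleCat.{u} A) ℕ) : Type (u + 1) :=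
  ∀ (k : ℕ) (s : Stage R k), Σ P : ModuleCat.{u} A, P →ₗ[A] s.M

variable (C : Chooser R)

/-- the sequence of stages -/
def seq : ∀ k, Stage R k
  | 0 => stageZero R
  | k + 1 => (seq k).next (C k (seq k)).1 (C k (seq k)).2

/-- the modules of the resolution -/
def PX (k : ℕ) : ModuleCat.{u} A := (C k (seq C k)).1

/-- the cover in degree `k` -/
def π (k : ℕ) : PX C k →ₗ[A] (seq C k).M := (C k (seq C k)).2

/-- the first component of a pair -/
def stFst (k : ℕ) : (seq C (k + 1)).M →ₗ[A] PX C k :=
  (LinearMap.fst A (PX C k) (R.X (k + 1))).comp (Submodule.subtype _)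

lemma mem_next (k : ℕ) (m : (seq C (k + 1)).M) :
    π C k (stFst C k m) = (seq C k).j ((seq C (k + 1)).x m) := by
  have h : π C k (stFst C k m) + -((seq C k).j ((seq C (k + 1)).x m)) = 0 := m.2
  rwa [← sub_eq_add_neg, sub_eq_zero] at h

lemma stFst_j (k : ℕ) (y : R.X (k + 2)) : stFst C k ((seq C (k + 1)).j y) = 0 := rfl

/-- the differential -/
def dd (k : ℕ) : PX C (k + 1) ⟶ PX C k := ModuleCat.ofHom ((stFst C k).comp (π C (k + 1)))

/-- the resolution -/
def res : ChainComplex (ModuleCat.{u} A) ℕ :=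
  ChainComplex.of (PX C) (dd C) fun n => by
    refine ModuleCat.hom_ext (LinearMap.ext fun q => ?_)
    show stFst C n (π C (n + 1) (stFst C (n + 1) (π C (n + 2) q))) = 0
    rw [mem_next, stFst_j]

lemma res_d (k : ℕ) : (res C).d (k + 1) k = dd C k := by simp [res]

/-- the augmentation -/
def aug : res C ⟶ R where
  f k := ModuleCat.ofHom ((seq C k).x.comp (π C k))
  comm' i j hij := by
    obtain rfl : j + 1 = i := hij
    rw [res_d]
    refine ModuleCat.hom_ext (LinearMap.ext fun q => ?_)
    show R.d (j + 1) j ((seq C (j + 1)).x (π C (j + 1) q)) = (seq C j).x (π C j (stFst C j (π C (j + 1) q)))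
    rw [mem_next, (seq C j).xj]

/-- the cover at stage `k` generates, modulo boundaries -/
def Covers (k : ℕ) : Prop := ∀ m : (seq C k).M, ∃ q y, π C k q + (seq C k).j y = m

lemma exact_bottom (h : Covers C 0) (x : R.X 0) : ∃ q y, (aug C).f 0 q + R.d 1 0 y = x :=
  h x

/-- pairs of the next stage -/
lemma exists_pair (k : ℕ) (p : PX C k) (x : R.X (k + 1)) (hp : ∀ i, (res C).d k i p = 0)
    (hx : (aug C).f k p = R.d (k + 1) k x) :
    ∃ m : (seq C (k + 1)).M, stFst C k m = p ∧ (seq C (k + 1)).x m = x := by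
  have hpx : π C k p = (seq C k).j x := by
    cases k with
    | zero => exact hx
    | succ k =>
      refine Subtype.ext (Prod.ext ?_ ?_)
      · have := hp k
        rw [res_d] at this
        exact this
      · exact hx
  exact ⟨⟨(p, x), show π C k p + -((seq C k).j x) = 0 by rw [hpx, add_neg_cancel]⟩, rfl, rfl⟩

lemma exact_step (k : ℕ) (h : Covers C (k + 1)) (p : PX C k) (x : R.X (k + 1))
    (hp : ∀ i, (res C).d k i p = 0) (hx : (aug C).f k p = R.d (k + 1) k x) :
    ∃ q y, (res C).d (k + 1) k q = p ∧ (aug C).f (k + 1) q + R.d (k + 2) (k + 1) y = x := by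
  obtain ⟨m, hm1, hm2⟩ := exists_pair C k p x hp hx
  obtain ⟨q, y, hqy⟩ := h m
  refine ⟨q, y, ?_, ?_⟩
  · rw [res_d]
    show stFst C k (π C (k + 1) q) = p
    rw [← hm1, ← hqy, map_add, stFst_j, add_zero]
  · show (seq C (k + 1)).x (π C (k + 1) q) + _ = x
    rw [← hm2, ← hqy, map_add, (seq C (k + 1)).xj]

end Groth.L19.NcPC
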